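import Mathlib.RingTheory.ZariskisMainTheorem

/-! Lifting a finite factor to the integral closure. -/

set_option autoImplicit false
universe u

namespace IdemIntClLib

variable {A B C : Type u} [CommRing A] [CommRing B] [CommRing C] [Algebra A B] [Algebra A C]

/-- Points of a finite open factor of a closed fibre union are quasi-finite. -/
theorem quasiFiniteAt_of_finite_factor [Algebra.FiniteType A B] [Module.Finite A C] (I : Ideal A)
    (f : B →ₐ[A] C) (hf : Function.Surjective f) (e : B) (he : f e = 1)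
    (hker : ∀ x ∈ RingHom.ker f, e * x ∈ I.map (algebraMap A B))
    (q : PrimeSpectrum B) (hq : RingHom.ker f ≤ q.asIdeal) (hI : I.map (algebraMap A B) ≤ RingHom.ker f) :
    Algebra.QuasiFiniteAt A q.asIdeal := by
  refine Algebra.QuasiFiniteAt.of_isOpen_singleton_fiber q ?_
  let p := q.asIdeal.under A
  have hIp : I ≤ p := fun i hi => hq (hI (Ideal.mem_map_of_mem _ hi))
  have heq : e ∉ q.asIdeal := fun h => q.2.ne_top <| (Ideal.eq_top_iff_one _).2 <| by
    have h1 : e - 1 ∈ RingHom.ker f := by simp [RingHom.mem_ker, he]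
    simpa using q.asIdeal.sub_mem h (hq h1)
  -- the finitely many other points of the factor over `p`
  let F := (p.primesOver C).image (Ideal.comap f)
  have hF : F.Finite := (Algebra.QuasiFinite.finite_primesOver p).image _
  have hmem : ∀ r : PrimeSpectrum B, r.asIdeal.under A = p → e ∉ r.asIdeal →
      RingHom.ker f ≤ r.asIdeal ∧ r.asIdeal ∈ F := fun r hr her => by
    have hk : RingHom.ker f ≤ r.asIdeal := fun x hx => (r.2.mem_or_mem
      ((Ideal.map_le_iff_le_comap.2 (hr ▸ hIp : I ≤ r.asIdeal.under A)) (hker x hx))).resolve_left her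
    have : (r.asIdeal.map f).IsPrime := Ideal.map_isPrime_of_surjective hf hk
    have hc : (r.asIdeal.map f).comap f = r.asIdeal :=
      (Ideal.comap_map_of_surjective _ hf _).trans (sup_eq_left.2 hk)
    refine ⟨hk, r.asIdeal.map f, ⟨this, ⟨?_⟩⟩, hc⟩
    rw [← hr]
    conv_lhs => rw [← hc]
    ext a
    simp [Ideal.under, Ideal.mem_comap]
  have key : ∀ r ∈ F, r ≠ q.asIdeal → ∃ s, s ∈ r ∧ s ∉ q.asIdeal := by
    rintro _ ⟨P, hP, rfl⟩ hne
    by_contra! h
    obtain ⟨-, Q, hQ, hQq⟩ := hmem q rfl heq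
    refine hne ((congrArg _ ?_).trans hQq)
    have := hP.1
    have := hQ.1
    refine Algebra.QuasiFinite.eq_of_le_of_under_eq (R := A) P Q (fun x hx => ?_) (hP.2.1.symm.trans hQ.2.1)
    obtain ⟨b, rfl⟩ := hf x
    have hb : b ∈ Ideal.comap f Q := by rw [hQq]; exact h b hx
    exact hb
  choose s hs using key
  let d := e * ∏ r ∈ (hF.toFinset.filter fun r => r ≠ q.asIdeal).attach,
    s r.1 (hF.mem_toFinset.1 (Finset.mem_filter.1 r.2).1) (Finset.mem_filter.1 r.2).2
  have hdq : d ∉ q.asIdeal := fun h => (q.2.mem_or_mem h).elim heq fun h => by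
    obtain ⟨r, -, hr⟩ := (Ideal.IsPrime.prod_mem_iff).1 h
    exact (hs _ _ _).2 hr
  refine ⟨PrimeSpectrum.basicOpen d, (PrimeSpectrum.basicOpen d).isOpen, ?_⟩
  ext ⟨r, hr⟩
  simp only [Set.mem_preimage, SetLike.mem_coe, Set.mem_singleton_iff]
  refine ⟨fun hd => Subtype.ext (PrimeSpectrum.ext ?_), fun h => by obtain rfl : r = q := congrArg Subtype.val h; exact hdq⟩
  by_contra hne
  obtain ⟨-, hrF⟩ := hmem r (congrArg PrimeSpectrum.asIdeal hr) fun h => hd (Ideal.mul_mem_right _ _ h)
  refine hd (Ideal.mul_mem_left _ _ ((Ideal.IsPrime.prod_mem_iff).2 ⟨⟨r.asIdeal,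
    Finset.mem_filter.2 ⟨hF.mem_toFinset.2 hrF, hne⟩⟩, Finset.mem_attach _ _, (hs _ _ _).1⟩))

/-- The ideal of elements of the integral closure outside which `B` agrees with it. -/
def agreeIdeal (A B : Type u) [CommRing A] [CommRing B] [Algebra A B] : Ideal (integralClosure A B) where
  carrier := {r | ∀ b : B, ∃ n : ℕ, (r : B) ^ n * b ∈ integralClosure A B}
  zero_mem' b := ⟨1, by simp [zero_mem]⟩
  add_mem' {r s} hr hs b := by
    obtain ⟨n, hn⟩ := hr b
    obtain ⟨m, hm⟩ := hs b
    refine ⟨n + m, ?_⟩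
    push_cast
    rw [add_pow, Finset.sum_mul]
    refine sum_mem fun i hi => ?_
    rw [Finset.mem_range] at hi
    by_cases h : n ≤ i
    · rw [show (r : B) ^ i * (s : B) ^ (n + m - i) * ((n + m).choose i : B) * b
          = (r : B) ^ (i - n) * (s : B) ^ (n + m - i) * ((n + m).choose i : B) * ((r : B) ^ n * b) by
        rw [show (r : B) ^ i = (r : B) ^ (i - n) * (r : B) ^ n by rw [← pow_add, Nat.sub_add_cancel h]]
        ring]
      exact mul_mem (mul_mem (mul_mem (pow_mem r.2 _) (pow_mem s.2 _)) (natCast_mem _ _)) hn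
    · rw [show (r : B) ^ i * (s : B) ^ (n + m - i) * ((n + m).choose i : B) * b
          = (r : B) ^ i * (s : B) ^ (n - i) * ((n + m).choose i : B) * ((s : B) ^ m * b) by
        rw [show n + m - i = (n - i) + m by omega, pow_add]
        ring]
      exact mul_mem (mul_mem (mul_mem (pow_mem r.2 _) (pow_mem s.2 _)) (natCast_mem _ _)) hm
  smul_mem' c r hr b := by
    obtain ⟨n, hn⟩ := hr b
    refine ⟨n, ?_⟩
    rw [show ((c • r : integralClosure A B) : B) = (c : B) * r from rfl, mul_pow, mul_assoc]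
    exact mul_mem (pow_mem c.2 _) hn

theorem pow_mul_mem_map {I : Ideal A} (r : integralClosure A B) (hr : r ∈ agreeIdeal A B)
    {x : B} (hx : x ∈ I.map (algebraMap A B)) :
    ∃ n : ℕ, ∃ y ∈ I.map (algebraMap A (integralClosure A B)), (r : B) ^ n * x = (y : B) := by
  rw [Ideal.map] at hx
  induction hx using Submodule.span_induction with
  | mem x hx =>
    obtain ⟨i, hi, rfl⟩ := hx
    exact ⟨0, _, Ideal.mem_map_of_mem _ hi, by simp⟩
  | zero => exact ⟨0, 0, zero_mem _, by simp⟩
  | add x y _ _ h1 h2 =>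
    obtain ⟨n, u, hu, hu'⟩ := h1
    obtain ⟨m, v, hv, hv'⟩ := h2
    refine ⟨n + m, r ^ m * u + r ^ n * v, add_mem (Ideal.mul_mem_left _ _ hu) (Ideal.mul_mem_left _ _ hv), ?_⟩
    push_cast
    rw [← hu', ← hv']
    ring
  | smul c x _ h =>
    obtain ⟨n, u, hu, hu'⟩ := h
    obtain ⟨m, hm⟩ := hr c
    refine ⟨n + m, ⟨_, hm⟩ * u, Ideal.mul_mem_left _ _ hu, ?_⟩
    push_cast
    rw [← hu', smul_eq_mul]
    ring

theorem exists_mem_agreeIdeal [Algebra.FiniteType A B] [Module.Finite A C] (I : Ideal A)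
    (f : B →ₐ[A] C) (hf : Function.Surjective f) (e : B) (he : f e = 1)
    (hker : ∀ x ∈ RingHom.ker f, e * x ∈ I.map (algebraMap A B)) (hI : I.map (algebraMap A B) ≤ RingHom.ker f) :
    ∃ a ∈ agreeIdeal A B, f (a : B) = 1 := by
  let g : integralClosure A B →+* C := (f.comp (integralClosure A B).val).toRingHom
  by_contra! h
  let J := agreeIdeal A B ⊔ RingHom.ker g
  have hJ : J ≠ ⊤ := fun ht => by
    obtain ⟨a, ha, k, hk, hak⟩ := Submodule.mem_sup.1 ((Ideal.eq_top_iff_one _).1 ht)
    refine h a ha ?_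
    have h1 := congrArg g hak
    rw [map_add, RingHom.mem_ker.1 hk, add_zero, map_one] at h1
    exact h1
  obtain ⟨M, hM, hJM⟩ := Ideal.exists_le_maximal J hJ
  letI := g.toAlgebra
  have : IsScalarTower A (integralClosure A B) C := IsScalarTower.of_algebraMap_eq fun x => (f.commutes x).symm
  have : Algebra.IsIntegral (integralClosure A B) C := Algebra.IsIntegral.tower_top (R := A)
  obtain ⟨Q, -, hQ, hQM⟩ := Ideal.exists_ideal_over_prime_of_isIntegral M (⊥ : Ideal C)
    (by exact le_sup_right.trans hJM)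
  let q : PrimeSpectrum B := ⟨Q.comap f, Ideal.comap_isPrime f Q⟩
  have := quasiFiniteAt_of_finite_factor I f hf e he hker q (fun x hx => by
    simp [q, Ideal.mem_comap, RingHom.mem_ker.1 hx]) hI
  obtain ⟨r, hr, hri, hrb⟩ := Algebra.zariskisMainProperty_iff.1
    (Algebra.ZariskisMainProperty.of_finiteType (R := A) q.asIdeal)
  refine hr ?_
  have : (⟨r, hri⟩ : integralClosure A B) ∈ Q.comap (algebraMap (integralClosure A B) C) := by
    rw [hQM]
    exact hJM (Submodule.mem_sup_left fun b => hrb b)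
  exact this

theorem exists_lift [Algebra.FiniteType A B] [Module.Finite A C] (I : Ideal A)
    (f : B →ₐ[A] C) (hf : Function.Surjective f) (e : B) (he : f e = 1)
    (hker : ∀ x ∈ RingHom.ker f, e * x ∈ I.map (algebraMap A B)) (hI : I.map (algebraMap A B) ≤ RingHom.ker f)
    (hidem : e * e - e ∈ I.map (algebraMap A B)) :
    ∃ g ∈ agreeIdeal A B, IsIdempotentElem (Ideal.Quotient.mk (I.map (algebraMap A (integralClosure A B))) g) ∧
      (g : B) - e ∈ I.map (algebraMap A B) := by
  obtain ⟨a, ha, hfa⟩ := exists_mem_agreeIdeal I f hf e he hker hI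
  let π := Ideal.Quotient.mk (I.map (algebraMap A B))
  have h1 : π e * π (a : B) = π e := by
    rw [← map_mul]
    refine Ideal.Quotient.eq.2 ?_
    rw [show e * (a : B) - e = e * ((a : B) - 1) by ring]
    exact hker _ (by simp [RingHom.mem_ker, hfa])
  obtain ⟨n, hn⟩ := ha e
  let g₀ : integralClosure A B := a * ⟨_, hn⟩
  have hg₀ : g₀ ∈ agreeIdeal A B := Ideal.mul_mem_right _ _ ha
  have hpi : π (g₀ : B) = π e := by
    show π ((a : B) * ((a : B) ^ n * e)) = π e
    rw [← mul_assoc, ← pow_succ', map_mul, map_pow]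
    clear hn g₀ hg₀
    generalize n + 1 = k
    induction k with
    | zero => simp
    | succ k ih => rw [pow_succ, mul_assoc, mul_comm (π (a : B)), h1, ih]
  have hee : π e * π e = π e := by rw [← map_mul]; exact Ideal.Quotient.eq.2 hidem
  obtain ⟨N, y, hy, hy'⟩ := pow_mul_mem_map (I := I) g₀ hg₀
    (x := (g₀ : B) * g₀ - g₀) (Ideal.Quotient.eq.1 (by rw [map_mul]; rw [hpi, hee]))
  have hy2 : g₀ ^ N * (g₀ * g₀ - g₀) ∈ I.map (algebraMap A (integralClosure A B)) := by
    convert hy using 1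
    exact Subtype.ext (by push_cast; exact hy')
  refine ⟨g₀ ^ (N + 1), Ideal.pow_mem_of_mem _ hg₀ _ (Nat.succ_pos N), ?_, ?_⟩
  · let ρ := Ideal.Quotient.mk (I.map (algebraMap A (integralClosure A B)))
    have h2 : ρ g₀ ^ (N + 2) = ρ g₀ ^ (N + 1) := by
      rw [← map_pow, ← map_pow]
      refine Ideal.Quotient.eq.2 ?_
      convert hy2 using 1
      ring
    have h3 : ∀ j, ρ g₀ ^ (N + 1 + j) = ρ g₀ ^ (N + 1) := fun j => by
      induction j with
      | zero => rfl
      | succ j ih => rw [← add_assoc, pow_succ, ih, ← pow_succ]; exact h2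
    show ρ _ * ρ _ = ρ _
    rw [map_pow, ← pow_add]
    exact h3 (N + 1)
  · refine Ideal.Quotient.eq.1 (show π _ = π e from ?_)
    push_cast
    rw [map_pow, hpi]
    exact IsIdempotentElem.pow_succ_eq N hee

end IdemIntClLib
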